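import Cfsg.Agent.H691.Defs

/-!
# Vocabulary for S4855 (groups with the character degrees of `SL₃(q)`) (helper691)

* `DT q` : the set of degrees of `SL₃(q)`;
* `Known q D` : what is used about `D = charDegrees SL₃(q)`;
* `Stab χ` : the character `χ` of `GL₃(F)` is fixed by multiplication with some `λ ∘ det`, `λ ≠ 1`;
* `CB S l c` : `S` has an element of `l`-power order with centraliser of order at most `c`.
-/

set_option autoImplicit false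

namespace Cfsg.Agent.H691.T3

open Matrix

universe u

/-- The set of degrees of `SL₃(q)` (`n = q² + q + 1`): `1, q² + q, q³, q³ - 1, (q - 1)² (q + 1)`; `n, q n` if `q ≥ 3`;
`(q + 1) n` if `q ≥ 5`; `(q + 1) n / 3, (q - 1)² (q + 1) / 3` if `3 ∣ q - 1`. -/
def DT (q : ℕ) : Set ℕ := {d | d = 1 ∨ d = q ^ 2 + q ∨ d = q ^ 3 ∨ d + 1 = q ^ 3 ∨ d = (q - 1) ^ 2 * (q + 1) ∨
  (3 ≤ q ∧ (d = q ^ 2 + q + 1 ∨ d = q * (q ^ 2 + q + 1))) ∨ (5 ≤ q ∧ d = (q + 1) * (q ^ 2 + q + 1)) ∨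
  (3 ∣ q - 1 ∧ (3 * d = (q + 1) * (q ^ 2 + q + 1) ∨ 3 * d = (q - 1) ^ 2 * (q + 1)))}

/-- What is used about the set `D` of degrees of `SL₃(q)`. -/
structure Known (q : ℕ) (D : Set ℕ) : Prop where
  sub : D ⊆ DT q
  st : q ^ 3 ∈ D
  two : q ^ 2 + q ∈ D
  lin : 3 ≤ q → q ^ 2 + q + 1 ∈ D
  third : 3 ∣ q - 1 → ∀ d, 3 * d = (q - 1) ^ 2 * (q + 1) → d ∈ D
  small : q = 2 → 3 ∈ D ∧ 7 ∈ D

/-- `χ` is fixed by multiplication with some nontrivial linear character `λ ∘ det`. -/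
def Stab {F : Type u} [Field F] (χ : GL (Fin 3) F → ℂ) : Prop :=
  ∃ l : Fˣ →* ℂˣ, l ≠ 1 ∧ ∀ g : GL (Fin 3) F, ((l (Matrix.GeneralLinearGroup.det g) : ℂˣ) : ℂ) * χ g = χ g

/-- The subgroup of the upper unitriangular matrices, as a set. -/
def UU (F : Type u) [Field F] : Set (GL (Fin 3) F) :=
  {g | (∀ i, (g : Matrix (Fin 3) (Fin 3) F) i i = 1) ∧ ∀ i j, j < i → (g : Matrix (Fin 3) (Fin 3) F) i j = 0}

/-- The matrices `1 + a e₁₃ + b e₂₃`. -/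
def QA (F : Type u) [Field F] : Set (GL (Fin 3) F) := {g | g ∈ UU F ∧ (g : Matrix (Fin 3) (Fin 3) F) 0 1 = 0}

/-- The matrices `1 + a e₁₂ + b e₁₃`. -/
def QB (F : Type u) [Field F] : Set (GL (Fin 3) F) := {g | g ∈ UU F ∧ (g : Matrix (Fin 3) (Fin 3) F) 1 2 = 0}

/-- `S` has an element of `l`-power order with centraliser of order at most `c`. -/
def CB (S : Type u) [Group S] (l c : ℕ) : Prop :=
  ∃ x : S, (∃ a : ℕ, x ^ l ^ a = 1) ∧ Nat.card (Subgroup.centralizer ({x} : Set S)) ≤ c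

end Cfsg.Agent.H691.T3
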