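import Cfsg.Agent.H691.T3.Main
import Cfsg.Agent.H33.IMLie
import Cfsg.Agent.H510.T3S.Final
import Cfsg.Agent.H42.Psl3.Main

/-!
# The facts used by the proof of S4855 (helper691)

Assembly: Itô-Michler for the nonsporadic simple groups (hub H5, helper33 and others), the sporadic groups and the
Tits group (helper510), centrality of the kernel (helper42).
-/

set_option autoImplicit false

open Cfsg

namespace Cfsg.Agent.H691.T3.LateAll

universe u

theorem late : Cfsg.Agent.H691.T3.Main.Late.{u} where
  im := by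
    intro S _ _ hs hK hc hsp l hl hd
    have := Fact.mk hl
    obtain ⟨χ, hχ⟩ := Cfsg.Agent.H33.im_nonsporadic hs hK hc hsp hd
    exact ⟨_, ⟨χ, rfl⟩, hχ⟩
  spor := by
    intro A _ _ S h p F hp hF h3 hpS hD hsp
    exact Cfsg.Agent.H510.T3S.spor_false3 h hp hF h3 hpS hD hsp
  central := by
    intro G _ _ F _ _ h3 hD N R _ _ hRN hN e
    exact Cfsg.Agent.H42.Psl3.central_of_psl3 h3 hD N R hRN hN e

end Cfsg.Agent.H691.T3.LateAll
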