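import Cfsg.Agent.H691.T3.Fam
import Cfsg.Agent.H691.LieAll

/-!
# `NF3` for the simple groups of Lie type (helper691)

`Conc` : a simple group of Lie type in characteristic `p`, not `PSL₂`, `PSL₃`, `PSL₄(2)`, satisfies the negative
criterion for the order of its Sylow `p`-subgroups.
-/

set_option autoImplicit false

namespace Cfsg.Agent.H691.T3.Lie

open Cfsg Cfsg.Agent.H934.OutB Matrix
open Cfsg.Agent.H691.Lie (card_sylow nd_mul nd_sub nd_add nd_prod nd_of_dvd exists_deg five_le two_le_pow exists_deg_pow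
  finite_of_card)

universe u

/-- the conclusion -/
def Conc (p : ℕ) (S : Type u) [Group S] : Prop :=
  ∃ s out : ℕ, 5 ≤ s ∧ (∀ Q : Sylow p S, Nat.card Q = s) ∧ 0 < out ∧ Nat.card (Cfsg.Out S) ∣ out ∧ NF3 s (Nat.card S) out

theorem Conc.congr {p : ℕ} [Fact p.Prime] {X : Type u} {Y : Type*} [Group X] [Group Y] [Finite Y]
    (h : Conc p X) (e : Y ≃* X) : Conc p Y := by
  obtain ⟨s, out, h0, h1, h2, h3, h4⟩ := h
  refine ⟨s, out, h0, fun Q => ?_, h2, ?_, ?_⟩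
  · have hQ : Nat.card ((Q : Subgroup Y).map e.toMonoidHom) = Nat.card Q :=
      Subgroup.card_map_of_injective e.injective
    have h5 : ∀ Q' : Sylow p X, Nat.card Q' = s := h1
    have h6 := h5 (Q.mapSurjective (f := e.toMonoidHom) e.surjective)
    rw [← hQ]
    exact h6
  · rw [card_out_congr e]
    exact h3
  · rw [Nat.card_congr e.toEquiv]
    exact h4

/-! ### the classical groups -/

section

variable {p : ℕ} {F : Type u} [Field F] [Fintype F] [CharP F p]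

theorem psl {n : ℕ} (hn : 4 ≤ n) [IsSimpleGroup (ProjectiveSpecialLinearGroup (Fin n) F)]
    (hna : ¬ IsMulCommutative (ProjectiveSpecialLinearGroup (Fin n) F))
    (hx : ¬ (n = 4 ∧ Fintype.card F = 2)) : Conc p (ProjectiveSpecialLinearGroup (Fin n) F) := by
  obtain ⟨f, hp, hf, hF⟩ := exists_deg (F := F) (p := p)
  have := Fact.mk hp
  have := H934.OutCl.finite_psl (F := F) n
  have h1 := Cfsg.Agent.S0813.result (F := F) p f hf hF n (by omega) (by omega)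
  rw [if_neg (by omega), H934.OutCl.card_pgl (by omega), ← mul_assoc] at h1
  have h2 := card_out_of_aut hna h1
  have h3 := S0243.result (F := F) rfl n (by omega)
  rw [Fin.prod_univ_eq_prod_range (fun i => Fintype.card F ^ n - Fintype.card F ^ i) n, hF] at h3
  have hq0 : p ^ f ≠ 0 := pow_ne_zero _ hp.ne_zero
  have hpq : p ∣ p ^ f := dvd_pow_self p (by omega)
  have hd1 : ¬ p ∣ p ^ f - 1 := by
    have := nd_sub (k := 1) hp hpq hq0 one_ne_zero
    rwa [pow_one] at this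
  have hn3 : 3 ≤ n * (n - 1) / 2 := by
    have : n * 2 ≤ n * (n - 1) := Nat.mul_le_mul_left _ (by omega)
    omega
  refine ⟨(p ^ f) ^ (n * (n - 1) / 2), 2 * Nat.gcd n (p ^ f - 1) * f, five_le (two_le_pow hp hf) hn3, ?_, ?_, ?_, ?_⟩
  · have e1 : ∏ i ∈ Finset.range n, ((p ^ f) ^ n - (p ^ f) ^ i) =
        p ^ (f * (n * (n - 1) / 2)) * ∏ i ∈ Finset.range n, ((p ^ f) ^ (n - i) - 1) := by
      rw [← Finset.sum_range_id n, Finset.mul_sum, ← Finset.prod_pow_eq_pow_sum, ← Finset.prod_mul_distrib]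
      apply Finset.prod_congr rfl
      intro i hi
      rw [Finset.mem_range] at hi
      rw [pow_mul, Nat.mul_sub, ← pow_add, mul_one]
      congr 2
      omega
    rw [e1, ← mul_assoc] at h3
    intro Q
    rw [card_sylow hp h3 (nd_mul hp (nd_of_dvd hd1 (Nat.gcd_dvd_right _ _)) hd1) ?_ Q, pow_mul]
    apply nd_prod hp
    intro i hi
    rw [Finset.mem_range] at hi
    exact nd_sub hp hpq hq0 (by omega)
  · have : 0 < Nat.gcd n (p ^ f - 1) := Nat.gcd_pos_of_pos_left _ (by omega)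
    positivity
  · rw [h2, hF]
    exact dvd_of_eq (by ring)
  · refine Fam.psl_NF3 hp hf hn (by rwa [hF] at hx) ?_
    rw [← h3, ← mul_assoc]
    exact Dvd.intro_left _ rfl

theorem psp {m : ℕ} (hm : 2 ≤ m) (h3 : m = 2 → 3 ≤ Fintype.card F) [IsSimpleGroup (Cfsg.PSp m F)]
    (hna : ¬ IsMulCommutative (Cfsg.PSp m F)) : Conc p (Cfsg.PSp m F) := by
  obtain ⟨f, hp, hf, hF⟩ := exists_deg (F := F) (p := p)
  have := Fact.mk hp
  have : Finite (symplecticGroup (Fin m) F) := Subtype.finite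
  have : Finite (Cfsg.PSp m F) := inferInstance
  have h1 := Cfsg.Agent.S0814.result (F := F) p f hf hF m hm (by rwa [hF] at h3)
  have h2 := card_out_of_aut hna h1
  have hq0 : p ^ f ≠ 0 := pow_ne_zero _ hp.ne_zero
  have hpq : p ∣ p ^ f := dvd_pow_self p (by omega)
  have hd1 : ¬ p ∣ p ^ f - 1 := by
    have := nd_sub (k := 1) hp hpq hq0 one_ne_zero
    rwa [pow_one] at this
  have hc : Nat.gcd 2 (p ^ f - 1) * Nat.card (PSp m F) =
      (p ^ f) ^ (m ^ 2) * ∏ i ∈ Finset.range m, ((p ^ f) ^ (2 * (i + 1)) - 1) := by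
    have h1 := S0245.result (F := F) rfl m
    have h2 := S0246.result (F := F) rfl m (by omega)
    have h3 := Subgroup.card_eq_card_quotient_mul_card_subgroup
      (Subgroup.center (Matrix.symplecticGroup (Fin m) F))
    rw [h1, h2, hF] at h3
    rw [mul_comm]
    exact h3.symm
  refine ⟨(p ^ f) ^ (m ^ 2), 4 * f, five_le (two_le_pow hp hf) (by nlinarith), ?_, by omega, ?_, ?_⟩
  · intro Q
    rw [← pow_mul] at hc ⊢
    refine card_sylow hp hc (nd_of_dvd hd1 (Nat.gcd_dvd_right _ _)) ?_ Q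
    exact nd_prod hp _ fun i _ => nd_sub hp hpq hq0 (by omega)
  · rw [h2]
    apply Nat.mul_dvd_mul_right
    have hg : Nat.gcd 2 (p ^ f - 1) ∣ 2 := Nat.gcd_dvd_left _ _
    have h5 : (if m = 2 ∧ p = 2 then 2 else 1) ∣ 2 := by split_ifs <;> norm_num
    exact (Nat.mul_dvd_mul h5 hg)
  · exact Fam.psp_NF3 hp hf hm (by rwa [hF] at h3) (by rw [← hc]; exact Dvd.intro_left _ rfl)

theorem psu {n q : ℕ} (hF : Fintype.card F = q ^ 2) (hn : 3 ≤ n) (h32 : ¬ (n = 3 ∧ q = 2))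
    [IsSimpleGroup (Cfsg.PSU n F q)] (hna : ¬ IsMulCommutative (Cfsg.PSU n F q)) : Conc p (Cfsg.PSU n F q) := by
  obtain ⟨f', hp, hf', hF'⟩ := exists_deg (F := F) (p := p)
  have := Fact.mk hp
  obtain ⟨f, -, hq⟩ : ∃ f ≤ f', q = p ^ f := (Nat.dvd_prime_pow hp).1 (by
    rw [← hF', hF]; exact dvd_pow_self q (by norm_num))
  have hf : 1 ≤ f := by
    by_contra h0
    have : f = 0 := by omega
    subst this
    rw [hq, pow_zero, one_pow] at hF
    have := Fintype.one_lt_card (α := F)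
    omega
  have : Finite (Cfsg.PSU n F q) := inferInstance
  have h1 := Cfsg.Agent.S0815.result (F := F) p f hf hq hF n hn h32
  have h2 := card_out_of_aut hna h1
  have hc := S0280.result hF n (by omega)
  rw [← mul_assoc] at hc
  have hpq : p ∣ q := by rw [hq]; exact dvd_pow_self p (by omega)
  have hq0 : q ≠ 0 := by rw [hq]; exact pow_ne_zero _ hp.ne_zero
  have hd1 : ¬ p ∣ q + 1 := by
    have := nd_add (k := 1) hp hpq one_ne_zero
    rwa [pow_one] at this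
  have hn3 : 3 ≤ n * (n - 1) / 2 := by
    have : n * 2 ≤ n * (n - 1) := Nat.mul_le_mul_left _ (by omega)
    omega
  refine ⟨q ^ (n * (n - 1) / 2), 2 * Nat.gcd n (q + 1) * f, five_le (hq ▸ two_le_pow hp hf) hn3, ?_, ?_, ?_, ?_⟩
  · intro Q
    have hc' := hc
    rw [hq, ← pow_mul, ← hq] at hc'
    rw [card_sylow hp hc' (nd_mul hp (nd_of_dvd hd1 (Nat.gcd_dvd_right _ _)) hd1) ?_ Q, hq, pow_mul]
    apply nd_prod hp
    intro i _
    split_ifs
    · exact nd_add hp hpq (by omega)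
    · exact nd_sub hp hpq hq0 (by omega)
  · have : 0 < Nat.gcd n (q + 1) := Nat.gcd_pos_of_pos_left _ (by omega)
    positivity
  · rw [h2]
    exact dvd_of_eq (by ring)
  · rw [hq] at h32 hc ⊢
    rcases hn.eq_or_lt with rfl | hn
    · exact Fam.psu3_NF3 hp hf (fun h => h32 ⟨rfl, h⟩) hc
    rcases (show 4 ≤ n by omega).eq_or_lt with rfl | hn
    · exact Fam.psu4_NF3 hp hf (by rw [← hc]; exact Dvd.intro_left _ rfl)
    · exact Fam.psu5_NF3 hp hf (by omega) (by rw [← hc]; exact Dvd.intro_left _ rfl)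

theorem oodd {m : ℕ} (hm : 3 ≤ m) (ho : Odd (Fintype.card F)) [IsSimpleGroup (POmega F (quadFormOdd m F))]
    (hna : ¬ IsMulCommutative (POmega F (quadFormOdd m F))) : Conc p (POmega F (quadFormOdd m F)) := by
  obtain ⟨f, hp, hf, hF⟩ := exists_deg (F := F) (p := p)
  have := Fact.mk hp
  have : Finite (Cfsg.isometryGroup F (Cfsg.quadFormOdd m F)) := inferInstance
  have : Finite (Cfsg.POmega F (Cfsg.quadFormOdd m F)) := inferInstance
  have hpo : Odd p := by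
    have ho' := ho
    rw [hF] at ho'
    exact Nat.Odd.of_mul_left (n := p ^ (f - 1)) (by rwa [← pow_succ', Nat.sub_add_cancel hf])
  have h1 := Cfsg.Agent.S0816.result (F := F) p f hf hF hpo m hm
  have h2 := card_out_of_aut hna h1
  have hq0 : p ^ f ≠ 0 := pow_ne_zero _ hp.ne_zero
  have hpq : p ∣ p ^ f := dvd_pow_self p (by omega)
  have hc := S0292.result (F := F) rfl ho m hm
  rw [hF] at hc
  have hp2 : ¬ p ∣ 2 := by
    intro h
    rw [(Nat.prime_dvd_prime_iff_eq hp Nat.prime_two).1 h] at hpo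
    exact absurd hpo (by decide)
  refine ⟨(p ^ f) ^ (m ^ 2), 4 * f, five_le (two_le_pow hp hf) (by nlinarith), ?_, by omega, ?_, ?_⟩
  · intro Q
    rw [← pow_mul] at hc ⊢
    refine card_sylow hp hc hp2 ?_ Q
    exact nd_prod hp _ fun i _ => nd_sub hp hpq hq0 (by omega)
  · rw [h2]
    apply Nat.mul_dvd_mul_right
    norm_num
  · exact Fam.psp_NF3 hp hf (by omega) (by omega) (by rw [← hc]; exact Dvd.intro_left _ rfl)

theorem oplus {m : ℕ} (hm : 4 ≤ m) [IsSimpleGroup (POmega F (quadFormPlus m F))]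
    (hna : ¬ IsMulCommutative (POmega F (quadFormPlus m F))) : Conc p (POmega F (quadFormPlus m F)) := by
  obtain ⟨f, hp, hf, hF⟩ := exists_deg (F := F) (p := p)
  have := Fact.mk hp
  have : Finite (Cfsg.isometryGroup F (Cfsg.quadFormPlus m F)) := inferInstance
  have : Finite (Cfsg.POmega F (Cfsg.quadFormPlus m F)) := inferInstance
  have h1 := Cfsg.Agent.S0817.result (F := F) p f hf hF m hm
  have h2 := card_out_of_aut hna h1
  have hq0 : p ^ f ≠ 0 := pow_ne_zero _ hp.ne_zero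
  have hpq : p ∣ p ^ f := dvd_pow_self p (by omega)
  have hc := S0293.result (F := F) rfl m hm
  rw [hF] at hc
  have hc2 : Nat.gcd 4 ((p ^ f) ^ m - 1) * Nat.card (POmega F (quadFormPlus m F)) =
      (p ^ f) ^ (m * (m - 1)) * (((p ^ f) ^ m - 1) * ∏ i ∈ Finset.range (m - 1), ((p ^ f) ^ (2 * (i + 1)) - 1)) := by
    rw [← mul_assoc ((p ^ f) ^ (m * (m - 1)))]
    exact hc
  have hm3 : 3 ≤ m * (m - 1) := le_trans (by norm_num) (Nat.mul_le_mul hm (show 3 ≤ m - 1 by omega))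
  refine ⟨(p ^ f) ^ (m * (m - 1)), Fam.oc p * f, five_le (two_le_pow hp hf) hm3, ?_,
    Nat.mul_pos (Fam.oc_pos _) (by omega), ?_, ?_⟩
  · intro Q
    rw [← pow_mul p f (m * (m - 1))] at hc2 ⊢
    refine card_sylow hp hc2 (nd_of_dvd (nd_sub hp hpq hq0 (k := m) (by omega)) (Nat.gcd_dvd_right _ _))
      (nd_mul hp (nd_sub hp hpq hq0 (by omega)) ?_) Q
    exact nd_prod hp _ fun i _ => nd_sub hp hpq hq0 (by omega)
  · rw [h2]
    apply Nat.mul_dvd_mul_right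
    unfold Fam.oc
    by_cases hp2 : p = 2
    · rw [if_pos hp2, if_pos hp2]
      split_ifs <;> norm_num
    · rw [if_neg hp2, if_neg hp2]
      split_ifs <;> norm_num
  · exact Fam.oplus_NF3 hp hf hm (by rw [← hc2]; exact Dvd.intro_left _ rfl)

theorem ominus {m : ℕ} (hm : 4 ≤ m) {a b : F}
    (hab : ∀ z₁ z₂ : F, z₁ ^ 2 + a * z₁ * z₂ + b * z₂ ^ 2 = 0 → z₁ = 0 ∧ z₂ = 0)
    [IsSimpleGroup (POmega F (quadFormMinus (m - 1) F a b))]
    (hna : ¬ IsMulCommutative (POmega F (quadFormMinus (m - 1) F a b))) :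
    Conc p (POmega F (quadFormMinus (m - 1) F a b)) := by
  obtain ⟨f, hp, hf, hF⟩ := exists_deg (F := F) (p := p)
  have := Fact.mk hp
  have : Finite (Cfsg.isometryGroup F (Cfsg.quadFormMinus (m - 1) F a b)) := inferInstance
  have : Finite (Cfsg.POmega F (Cfsg.quadFormMinus (m - 1) F a b)) := inferInstance
  have h1 := Cfsg.Agent.S0818.result (F := F) p f hf hF m hm a b hab
  have h2 := card_out_of_aut hna h1
  have hq0 : p ^ f ≠ 0 := pow_ne_zero _ hp.ne_zero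
  have hpq : p ∣ p ^ f := dvd_pow_self p (by omega)
  have hc := S0294.result (F := F) rfl m hm a b hab
  rw [hF] at hc
  have hc2 : Nat.gcd 4 ((p ^ f) ^ m + 1) * Nat.card (POmega F (quadFormMinus (m - 1) F a b)) =
      (p ^ f) ^ (m * (m - 1)) * (((p ^ f) ^ m + 1) * ∏ i ∈ Finset.range (m - 1), ((p ^ f) ^ (2 * (i + 1)) - 1)) := by
    rw [← mul_assoc ((p ^ f) ^ (m * (m - 1)))]
    exact hc
  have hm3 : 3 ≤ m * (m - 1) := le_trans (by norm_num) (Nat.mul_le_mul hm (show 3 ≤ m - 1 by omega))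
  refine ⟨(p ^ f) ^ (m * (m - 1)), Fam.oc p * f, five_le (two_le_pow hp hf) hm3, ?_,
    Nat.mul_pos (Fam.oc_pos _) (by omega), ?_, ?_⟩
  · intro Q
    rw [← pow_mul p f (m * (m - 1))] at hc2 ⊢
    refine card_sylow hp hc2 (nd_of_dvd (nd_add hp hpq (k := m) (by omega)) (Nat.gcd_dvd_right _ _))
      (nd_mul hp (nd_add hp hpq (by omega)) ?_) Q
    exact nd_prod hp _ fun i _ => nd_sub hp hpq hq0 (by omega)
  · rw [h2]
    apply Nat.mul_dvd_mul_right
    unfold Fam.oc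
    by_cases hp2 : p = 2
    · rw [if_pos hp2, if_pos hp2]
      norm_num
    · rw [if_neg hp2, if_neg hp2]
      split_ifs <;> norm_num
  · exact Fam.ominus_NF3 hp hf hm (by rw [← hc2]; exact Dvd.intro_left _ rfl)

end

/-! ### the exceptional groups -/

/-- the general form -/
theorem exc {p N A f d Y : ℕ} (hp : p.Prime) {X : Type u} [Group X] [Finite X] (hf : 1 ≤ f) (hA : 0 < A)
    (hc : d * Nat.card X = (p ^ f) ^ N * Y) (hd : ¬ p ∣ d) (hY : ¬ p ∣ Y) (ho : Nat.card (Cfsg.Out X) ∣ A * f)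
    (hNF : NF3 ((p ^ f) ^ N) (Nat.card X) (A * f)) (h5 : 5 ≤ (p ^ f) ^ N) : Conc p X := by
  refine ⟨(p ^ f) ^ N, A * f, h5, fun Q => ?_, by positivity, ho, hNF⟩
  rw [← pow_mul] at hc ⊢
  exact card_sylow hp hc hd hY Q

section

variable {p : ℕ} {F : Type} [Field F] [Fintype F] [CharP F p]

theorem g2 (h3 : 3 ≤ Fintype.card F) [Finite ↥(Lie.chevG2.group F)] : Conc p ↥(Lie.chevG2.group F) := by
  obtain ⟨f, hp, hf, hF⟩ := exists_deg (F := F) (p := p)
  have := Fact.mk hp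
  have h2 := S2121.result p f hF (by rwa [← hF])
  have hc := S1059.result (F := F) hF
  have hq0 : p ^ f ≠ 0 := pow_ne_zero _ hp.ne_zero
  have hpq : p ∣ p ^ f := dvd_pow_self p (by omega)
  refine exc (A := 6) (d := 1) (Y := ((p ^ f) ^ 2 - 1) * ((p ^ f) ^ 6 - 1)) hp hf (by norm_num) (by rw [hc]; ring)
    (by simpa using hp.ne_one) (nd_mul hp (nd_sub hp hpq hq0 (by norm_num)) (nd_sub hp hpq hq0 (by norm_num))) ?_
    (Fam.g2_NF3 hp hf (dvd_of_eq hc)) (five_le (two_le_pow hp hf) (by norm_num))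
  rw [h2]
  split_ifs
  · exact Nat.mul_dvd_mul_right (by norm_num) _
  · exact Dvd.intro_left _ rfl

theorem f4 [Finite ↥(Lie.chevF4.group F)] : Conc p ↥(Lie.chevF4.group F) := by
  obtain ⟨f, hp, hf, hF⟩ := exists_deg (F := F) (p := p)
  have := Fact.mk hp
  have h2 := S2122.result p f hF
  have hc := S1062.result (F := F) hF
  have hq0 : p ^ f ≠ 0 := pow_ne_zero _ hp.ne_zero
  have hpq : p ∣ p ^ f := dvd_pow_self p (by omega)
  have hn : ∀ k : ℕ, k ≠ 0 → ¬ p ∣ (p ^ f) ^ k - 1 := fun k hk => nd_sub hp hpq hq0 hk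
  refine exc (A := 6) (N := 24) (d := 1) (Y := ((p ^ f) ^ 2 - 1) * ((p ^ f) ^ 6 - 1) * ((p ^ f) ^ 8 - 1) *
    ((p ^ f) ^ 12 - 1)) hp hf (by norm_num) (by rw [hc]; ring)
    (by simpa using hp.ne_one) ?_ ?_ (Fam.f4_NF3 hp hf (dvd_of_eq hc)) (five_le (two_le_pow hp hf) (by norm_num))
  · exact nd_mul hp (nd_mul hp (nd_mul hp (hn _ (by norm_num)) (hn _ (by norm_num))) (hn _ (by norm_num)))
      (hn _ (by norm_num))
  · rw [h2]
    exact Nat.mul_dvd_mul_right ((Nat.gcd_dvd_left _ _).trans (by norm_num)) _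

theorem e6 [Finite ↥(Lie.chevE6.group F)] : Conc p ↥(Lie.chevE6.group F) := by
  obtain ⟨f, hp, hf, hF⟩ := exists_deg (F := F) (p := p)
  have := Fact.mk hp
  have h2 := S2123.result p f hF
  have hc := S1063.result (F := F) hF
  have hq0 : p ^ f ≠ 0 := pow_ne_zero _ hp.ne_zero
  have hpq : p ∣ p ^ f := dvd_pow_self p (by omega)
  have hn : ∀ k : ℕ, k ≠ 0 → ¬ p ∣ (p ^ f) ^ k - 1 := fun k hk => nd_sub hp hpq hq0 hk
  have hd1 := hn 1 one_ne_zero
  rw [pow_one] at hd1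
  refine exc (A := 6) (N := 36) (d := Nat.gcd 3 (p ^ f - 1)) (Y := ((p ^ f) ^ 2 - 1) * ((p ^ f) ^ 5 - 1) *
    ((p ^ f) ^ 6 - 1) * ((p ^ f) ^ 8 - 1) * ((p ^ f) ^ 9 - 1) * ((p ^ f) ^ 12 - 1)) hp hf (by norm_num)
    (by rw [hc]; ring) (nd_of_dvd hd1 (Nat.gcd_dvd_right _ _)) ?_ ?_
    (Fam.e6_NF3 hp hf (by rw [← hc]; exact Dvd.intro_left _ rfl))
    (five_le (two_le_pow hp hf) (by norm_num))
  · exact nd_mul hp (nd_mul hp (nd_mul hp (nd_mul hp (nd_mul hp (hn _ (by norm_num)) (hn _ (by norm_num)))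
      (hn _ (by norm_num))) (hn _ (by norm_num))) (hn _ (by norm_num))) (hn _ (by norm_num))
  · rw [h2]
    exact Nat.mul_dvd_mul_right (Nat.mul_dvd_mul_left 2 (Nat.gcd_dvd_left 3 _)) _

theorem e7 [Finite ↥(Lie.chevE7.group F)] : Conc p ↥(Lie.chevE7.group F) := by
  obtain ⟨f, hp, hf, hF⟩ := exists_deg (F := F) (p := p)
  have := Fact.mk hp
  have h2 := S2124.result p f hF
  have hc := S1064.result (F := F) hF
  have hq0 : p ^ f ≠ 0 := pow_ne_zero _ hp.ne_zero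
  have hpq : p ∣ p ^ f := dvd_pow_self p (by omega)
  have hn : ∀ k : ℕ, k ≠ 0 → ¬ p ∣ (p ^ f) ^ k - 1 := fun k hk => nd_sub hp hpq hq0 hk
  have hd1 := hn 1 one_ne_zero
  rw [pow_one] at hd1
  refine exc (A := 6) (N := 63) (d := Nat.gcd 2 (p ^ f - 1)) (Y := ((p ^ f) ^ 2 - 1) * ((p ^ f) ^ 6 - 1) *
    ((p ^ f) ^ 8 - 1) * ((p ^ f) ^ 10 - 1) * ((p ^ f) ^ 12 - 1) * ((p ^ f) ^ 14 - 1) * ((p ^ f) ^ 18 - 1))
    hp hf (by norm_num) (by rw [hc]; ring) (nd_of_dvd hd1 (Nat.gcd_dvd_right _ _)) ?_ ?_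
    (Fam.e7_NF3 hp hf (by rw [← hc]; exact Dvd.intro_left _ rfl))
    (five_le (two_le_pow hp hf) (by norm_num))
  · exact nd_mul hp (nd_mul hp (nd_mul hp (nd_mul hp (nd_mul hp (nd_mul hp (hn _ (by norm_num)) (hn _ (by norm_num)))
      (hn _ (by norm_num))) (hn _ (by norm_num))) (hn _ (by norm_num))) (hn _ (by norm_num))) (hn _ (by norm_num))
  · rw [h2]
    exact Nat.mul_dvd_mul_right ((Nat.gcd_dvd_left 2 _).trans (by norm_num)) _

theorem e8 [Finite ↥(Lie.chevE8.group F)] : Conc p ↥(Lie.chevE8.group F) := by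
  obtain ⟨f, hp, hf, hF⟩ := exists_deg (F := F) (p := p)
  have := Fact.mk hp
  have h2 := S2125.result p f hF
  have hc := S1065.result (F := F) hF
  have hq0 : p ^ f ≠ 0 := pow_ne_zero _ hp.ne_zero
  have hpq : p ∣ p ^ f := dvd_pow_self p (by omega)
  have hn : ∀ k : ℕ, k ≠ 0 → ¬ p ∣ (p ^ f) ^ k - 1 := fun k hk => nd_sub hp hpq hq0 hk
  refine exc (A := 6) (N := 120) (d := 1) (Y := ((p ^ f) ^ 2 - 1) * ((p ^ f) ^ 8 - 1) *
    ((p ^ f) ^ 12 - 1) * ((p ^ f) ^ 14 - 1) * ((p ^ f) ^ 18 - 1) * ((p ^ f) ^ 20 - 1) * ((p ^ f) ^ 24 - 1) *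
    ((p ^ f) ^ 30 - 1)) hp hf (by norm_num) (by rw [hc]; ring) (by simpa using hp.ne_one) ?_ ?_
    (Fam.e8_NF3 hp hf (dvd_of_eq hc)) (five_le (two_le_pow hp hf) (by norm_num))
  · exact nd_mul hp (nd_mul hp (nd_mul hp (nd_mul hp (nd_mul hp (nd_mul hp (nd_mul hp (hn _ (by norm_num))
      (hn _ (by norm_num))) (hn _ (by norm_num))) (hn _ (by norm_num))) (hn _ (by norm_num))) (hn _ (by norm_num)))
      (hn _ (by norm_num))) (hn _ (by norm_num))
  · rw [h2]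
    exact Dvd.intro_left _ rfl

end

section

variable {p : ℕ} {K : Type} [Field K] [Fintype K] [CharP K p]

theorem te6 {q : ℕ} (hq : IsPrimePow q) (hK : Fintype.card K = q ^ 2) [Finite ↥(Lie.twistedE6 K q)] :
    Conc p ↥(Lie.twistedE6 K q) := by
  obtain ⟨f, hp, hf, rfl, hF⟩ := exists_deg_pow (K := K) (p := p) hq (by norm_num) hK
  have := Fact.mk hp
  have h2 := S2130.result p f hF hf
  have hc := S1066.result hq hK
  have hq0 : p ^ f ≠ 0 := pow_ne_zero _ hp.ne_zero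
  have hpq : p ∣ p ^ f := dvd_pow_self p (by omega)
  have hn : ∀ k : ℕ, k ≠ 0 → ¬ p ∣ (p ^ f) ^ k - 1 := fun k hk => nd_sub hp hpq hq0 hk
  have hn' : ∀ k : ℕ, k ≠ 0 → ¬ p ∣ (p ^ f) ^ k + 1 := fun k hk => nd_add hp hpq hk
  have hd1 := hn' 1 one_ne_zero
  rw [pow_one] at hd1
  refine exc (A := 6) (N := 36) (d := Nat.gcd 3 (p ^ f + 1)) (Y := ((p ^ f) ^ 2 - 1) * ((p ^ f) ^ 5 + 1) *
    ((p ^ f) ^ 6 - 1) * ((p ^ f) ^ 8 - 1) * ((p ^ f) ^ 9 + 1) * ((p ^ f) ^ 12 - 1)) hp hf (by norm_num)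
    (by rw [hc]; ring) (nd_of_dvd hd1 (Nat.gcd_dvd_right _ _)) ?_ ?_
    (Fam.te6_NF3 hp hf (by rw [← hc]; exact Dvd.intro_left _ rfl))
    (five_le (two_le_pow hp hf) (by norm_num))
  · exact nd_mul hp (nd_mul hp (nd_mul hp (nd_mul hp (nd_mul hp (hn _ (by norm_num)) (hn' _ (by norm_num)))
      (hn _ (by norm_num))) (hn _ (by norm_num))) (hn' _ (by norm_num))) (hn _ (by norm_num))
  · rw [h2]
    exact Nat.mul_dvd_mul_right (Nat.mul_dvd_mul_left 2 (Nat.gcd_dvd_left 3 _)) _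

theorem td4 {q : ℕ} (hq : IsPrimePow q) (hK : Fintype.card K = q ^ 3) [Finite ↥(Lie.twistedD4 K q)] :
    Conc p ↥(Lie.twistedD4 K q) := by
  obtain ⟨f, hp, hf, rfl, hF⟩ := exists_deg_pow (K := K) (p := p) hq (by norm_num) hK
  have := Fact.mk hp
  have h2 := S2129.result p f hF hf
  have hc := S1067.result hq hK
  have hq0 : p ^ f ≠ 0 := pow_ne_zero _ hp.ne_zero
  have hpq : p ∣ p ^ f := dvd_pow_self p (by omega)
  have hn : ∀ k : ℕ, k ≠ 0 → ¬ p ∣ (p ^ f) ^ k - 1 := fun k hk => nd_sub hp hpq hq0 hk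
  refine exc (A := 6) (N := 12) (d := 1) (Y := ((p ^ f) ^ 2 - 1) * ((p ^ f) ^ 6 - 1) *
    ((p ^ f) ^ 8 + (p ^ f) ^ 4 + 1)) hp hf (by norm_num) (by rw [hc]; ring) (by simpa using hp.ne_one) ?_ ?_
    (Fam.td4_NF3 hp hf (dvd_of_eq hc)) (five_le (two_le_pow hp hf) (by norm_num))
  · refine nd_mul hp (nd_mul hp (hn _ (by norm_num)) (hn _ (by norm_num))) ?_
    intro h
    have h1 : p ∣ (p ^ f) ^ 8 + (p ^ f) ^ 4 := dvd_add (hpq.trans (dvd_pow_self _ (by norm_num)))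
      (hpq.trans (dvd_pow_self _ (by norm_num)))
    exact hp.one_lt.ne' (Nat.dvd_one.1 ((Nat.dvd_add_right h1).1 h))
  · rw [h2]
    exact Nat.mul_dvd_mul_right (by norm_num) _

end

theorem sz {K : Type} [Field K] [Fintype K] {m : ℕ} (hm : 1 ≤ m) (hK : Fintype.card K = 2 ^ (2 * m + 1))
    [Finite ↥(Lie.Sz K (2 ^ (m + 1)))] : Conc 2 ↥(Lie.Sz K (2 ^ (m + 1))) := by
  have h2 := S2126.result hm hK
  have hc := (S1163.result hm hK).1
  have hpq : 2 ∣ 2 ^ (2 * m + 1) := dvd_pow_self 2 (by omega)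
  have hq0 : 2 ^ (2 * m + 1) ≠ 0 := pow_ne_zero _ (by norm_num)
  have hd1 : ¬ 2 ∣ 2 ^ (2 * m + 1) - 1 := by
    have := nd_sub (k := 1) Nat.prime_two hpq hq0 one_ne_zero
    rwa [pow_one] at this
  refine exc (A := 1) (N := 2) (d := 1) (Y := (2 ^ (2 * m + 1) - 1) * ((2 ^ (2 * m + 1)) ^ 2 + 1)) Nat.prime_two
    (f := 2 * m + 1) (by omega) (by norm_num) (by rw [hc]; ring) (by norm_num)
    (nd_mul Nat.prime_two hd1 (nd_add Nat.prime_two hpq (by norm_num))) ?_ ?_ ?_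
  · rw [h2, one_mul]
  · rw [one_mul]
    exact Fam.sz_NF3 hm hc
  · rw [← pow_mul]
    exact five_le le_rfl (by omega)

theorem ree {K : Type} [Field K] [Fintype K] {m : ℕ} (hm : 1 ≤ m) (hK : Fintype.card K = 3 ^ (2 * m + 1))
    [Finite ↥(Lie.twistedG2 K (3 ^ m))] : Conc 3 ↥(Lie.twistedG2 K (3 ^ m)) := by
  have h2 := S2127.result hm hK
  have hc := S1069.result hK
  have hpq : 3 ∣ 3 ^ (2 * m + 1) := dvd_pow_self 3 (by omega)
  have hq0 : 3 ^ (2 * m + 1) ≠ 0 := pow_ne_zero _ (by norm_num)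
  have hd1 : ¬ 3 ∣ 3 ^ (2 * m + 1) - 1 := by
    have := nd_sub (k := 1) Nat.prime_three hpq hq0 one_ne_zero
    rwa [pow_one] at this
  refine exc (A := 1) (N := 3) (d := 1) (Y := (3 ^ (2 * m + 1) - 1) * ((3 ^ (2 * m + 1)) ^ 3 + 1)) Nat.prime_three
    (f := 2 * m + 1) (by omega) (by norm_num) (by rw [hc]; ring) (by norm_num)
    (nd_mul Nat.prime_three hd1 (nd_add Nat.prime_three hpq (by norm_num))) ?_ ?_
    (five_le (two_le_pow Nat.prime_three (by omega)) le_rfl)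
  · rw [h2, one_mul]
  · rw [one_mul]
    exact Fam.ree_NF3 hm (dvd_of_eq hc)

theorem tf4 {K : Type} [Field K] [Fintype K] {m : ℕ} (hm : 1 ≤ m) (hK : Fintype.card K = 2 ^ (2 * m + 1))
    [Finite ↥(Lie.twistedF4 K (2 ^ m))] : Conc 2 ↥(Lie.twistedF4 K (2 ^ m)) := by
  have h2 := S2128.result hm hK
  have hc := S1068.result hK
  have hpq : 2 ∣ 2 ^ (2 * m + 1) := dvd_pow_self 2 (by omega)
  have hq0 : 2 ^ (2 * m + 1) ≠ 0 := pow_ne_zero _ (by norm_num)
  have hd1 : ¬ 2 ∣ 2 ^ (2 * m + 1) - 1 := by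
    have := nd_sub (k := 1) Nat.prime_two hpq hq0 one_ne_zero
    rwa [pow_one] at this
  refine exc (A := 6) (N := 12) (d := 1) (Y := (2 ^ (2 * m + 1) - 1) * ((2 ^ (2 * m + 1)) ^ 3 + 1) *
    ((2 ^ (2 * m + 1)) ^ 4 - 1) * ((2 ^ (2 * m + 1)) ^ 6 + 1)) Nat.prime_two
    (f := 2 * m + 1) (by omega) (by norm_num) (by rw [hc]; ring) (by norm_num)
    (nd_mul Nat.prime_two (nd_mul Nat.prime_two (nd_mul Nat.prime_two hd1 (nd_add Nat.prime_two hpq (by norm_num)))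
      (nd_sub Nat.prime_two hpq hq0 (by norm_num))) (nd_add Nat.prime_two hpq (by norm_num))) ?_ ?_
    (five_le (two_le_pow Nat.prime_two (by omega)) (by norm_num))
  · rw [h2]
    exact Dvd.intro_left _ rfl
  · exact Fam.tf4_NF3 Nat.prime_two (by omega) (dvd_of_eq hc)

end Cfsg.Agent.H691.T3.Lie
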