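import Cfsg.Agent.H691.T3.KOne
import Cfsg.Agent.H691.T3.Final
import Cfsg.Agent.H691.Ident
import Cfsg.Agent.H691.Back
import Cfsg.Agent.H677.CodMain
import Cfsg.Agent.H686.SlCentral
import Cfsg.Agent.H612.Deg3.Degrees
import Cfsg.Agent.H612.Deg3.GLThird
import Cfsg.Agent.H326.T3.SlDeg
import Cfsg.Agent.H142.T3.Third
import Cfsg.Agent.H953.InvC
import Cfsg.Agent.H34.PerfThree
import Cfsg.Agent.H834.T3.Cover
import Cfsg.Agent.H446.SLT.Alt
import Cfsg.Agent.H446.SLT.Small
import Cfsg.Agent.H287.SL3.Main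
import Cfsg.Agent.H462.T3.PDvd3
import Cfsg.Agent.H31.S4855.Ext
import Mathlib.Algebra.Field.Shrink

/-!
# S4855, modulo the classification and some facts (helper691)
-/

set_option autoImplicit false

open scoped commutatorElement

namespace Cfsg.Agent.H691.T3.Main

open Cfsg Matrix Cfsg.Agent.Characters Cfsg.Agent.Characters.Core Cfsg.Agent.H681.DegBasic Cfsg.Agent.H686.CharKit
open Cfsg.Agent.H691.Lie Cfsg.Agent.H691.Spor Cfsg.Agent.H691.T3.KOne

universe u v

/-- The facts proved elsewhere. -/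
structure Late : Prop where
  im : ∀ (S : Type u) [Group S] [Finite S], IsSimpleGroup S → IsKnownSimple' S → ¬ IsMulCommutative S →
    ¬ IsSporadicGroup S → T3.Lie.IMS S
  spor : ∀ {A : Type u} [Group A] [Finite A] {S : Subgroup A}, AS A S → ∀ {p F : ℕ}, p.Prime → F ≠ 0 → 3 ≤ p ^ F →
    p ∣ Nat.card S → charDegrees A ⊆ DT (p ^ F) → (IsSporadicGroup S ∨ Lie.IsoTits S) → False
  central : ∀ {G : Type u} [Group G] [Finite G] {F : Type} [Field F] [Fintype F], 3 ≤ Fintype.card F →
    charDegrees G ⊆ DT (Fintype.card F) → ∀ (N R : Subgroup G) [N.Normal] [R.Normal], R ≤ N → ⁅N, N⁆ = N →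
    ((N ⧸ R.subgroupOf N) ≃* ProjectiveSpecialLinearGroup (Fin 3) F) → R ≤ Subgroup.centralizer (N : Set G)

theorem known_hasExt3 (T : TPs.{u}) {A : Type u} [Group A] [Finite A] {S : Subgroup A} (h : AS A S)
    (hK : IsKnownSimple' S) : HasExt3 A S := by
  have := h.normal
  have := h.simple
  have key : ∀ {p : ℕ}, p.Prime → IsLieTypeChar p S → (∀ Q : Sylow p S, 5 ≤ Nat.card Q) → HasExt3 A S := by
    intro p hp h1 h5
    have := Fact.mk hp
    obtain ⟨χ, hχ, hχS, hχ1⟩ := StExt.exists_ext S (H996.AllSplit.hasSplit_of_lie hp h1)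
    obtain ⟨Q⟩ := (inferInstance : Nonempty (Sylow p S))
    exact ⟨χ, hχ, hχS, _, hχ1 Q, by have := h5 Q; omega⟩
  rcases Ident.cases_known T h.nonab hK with ⟨n, hn, ⟨e⟩⟩ | ⟨r, hr, h'⟩ | h' | h'
  · obtain ⟨χ, hχ, hχS, hχ1⟩ := H464.AltExt.alt_ext S hn e
    exact ⟨χ, hχ, hχS, _, hχ1, by omega⟩
  · obtain ⟨p, hp, h1, h2⟩ := lie_five hr h.nonab h'
    exact key hp h1 h2
  · obtain ⟨p, hp, h1, h2⟩ := isPSLTwo_five h'
    exact key hp h1 h2
  · exact H31.S4855.ext_of_index_two h (Nat.le_of_dvd (by norm_num) (h.index_dvd_out.trans h'.1))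

/-- **Identification of the socle.** -/
theorem ident3 (L : Late.{u}) {A : Type u} [Group A] [Finite A] {S : Subgroup A} (h : AS A S) {p F : ℕ}
    (hp : p.Prime) (hF : F ≠ 0) (h3 : 3 ≤ p ^ F) (hpS : p ∣ Nat.card S) (hD : charDegrees A ⊆ DT (p ^ F))
    (hK : IsKnownSimple' S) :
    ∃ (K : Type) (_ : Field K) (_ : Fintype K), Fintype.card K = p ^ F ∧
      Nonempty (S ≃* ProjectiveSpecialLinearGroup (Fin 3) K) := by
  have := h.normal
  have := h.simple
  have halt : ∀ n, 7 ≤ n → ¬ Nonempty (S ≃* alternatingGroup (Fin n)) := fun n hn ⟨e⟩ =>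
    H446.SLT.alt_false3 h hn e h3 hD
  have htwo : ∀ (K : Type) [Field K] [Fintype K], Fintype.card K ^ 2 + Fintype.card K ∈
      charDegrees (ProjectiveSpecialLinearGroup (Fin 3) K) := fun K _ _ => H326.T3.sl3_two
  have hlie : ∀ r : ℕ, r.Prime → IsLieTypeChar r S → ¬ IsSporadicGroup S →
      ∃ (K : Type) (_ : Field K) (_ : Fintype K), Fintype.card K = p ^ F ∧
        Nonempty (S ≃* ProjectiveSpecialLinearGroup (Fin 3) K) := fun r hr hL hns =>
    T3.Lie.lie3 h hp hF h3 hpS hD (L.im S inferInstance hK h.nonab hns) (halt 8 (by norm_num)) hr hL htwo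
  by_cases hsp : IsSporadicGroup S
  · exact (L.spor h hp hF h3 hpS hD (Or.inl hsp)).elim
  rcases OddHalf.Known.classify h.nonab hK with h1 | ⟨r, hr, -, h1⟩ | (h1 | h1) | h1
  · rcases alt_cases h1 with ⟨n, hn, h2⟩ | h2
    · exact absurd h2 (halt n hn)
    · exact (T3.Lie.psl_two_false h hp hF h3 hD h2).elim
  · exact hlie r hr h1 hsp
  · exact hlie 2 Nat.prime_two h1 hsp
  · exact (L.spor h hp hF h3 hpS hD (Or.inr h1)).elim
  · exact absurd h1 hsp

theorem forward3 (L : Late.{u}) (T : TPs.{u})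
    (hCF : ∀ (S : Type u) [Group S] [Finite S] [IsSimpleGroup S], IsKnownSimple' S)
    {G : Type u} [Group G] [Finite G] {F : Type} [Field F] [Fintype F] (h3 : 3 ≤ Fintype.card F)
    (hD : charDegrees G = charDegrees (SpecialLinearGroup (Fin 3) F)) :
    ∃ K A : Subgroup G, Nonempty (K ≃* SpecialLinearGroup (Fin 3) F) ∧ IsMulCommutative A ∧
      A ≤ Subgroup.centralizer (K : Set G) ∧ K ⊔ A = ⊤ := by
  classical
  obtain ⟨f, hp, hcard⟩ := FiniteField.card F (ringChar F)
  set p := ringChar F with hpdef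
  have hf : (f : ℕ) ≠ 0 := f.ne_zero
  have h3' : 3 ≤ p ^ (f : ℕ) := hcard ▸ h3
  have hsl : charDegrees (SpecialLinearGroup (Fin 3) F) ⊆ DT (Fintype.card F) := H612.Deg3.degrees_subset
  have hDs : charDegrees G ⊆ DT (Fintype.card F) := hD.le.trans hsl
  have hDs' : charDegrees G ⊆ DT (p ^ (f : ℕ)) := by rw [← hcard]; exact hDs
  have hpsl : ∀ d, d ∈ charDegrees (ProjectiveSpecialLinearGroup (Fin 3) F) → d ∈ charDegrees G := by
    intro d hd
    rw [hD]
    exact charDegrees_comp (QuotientGroup.mk' (Subgroup.center (SpecialLinearGroup (Fin 3) F)))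
      (QuotientGroup.mk'_surjective _) hd
  have hst : Fintype.card F ^ 3 ∈ charDegrees G := hpsl _ H326.T3.sl3_st
  have htwo : Fintype.card F ^ 2 + Fintype.card F ∈ charDegrees G := hpsl _ H326.T3.sl3_two
  have hthird : 3 ∣ Fintype.card F - 1 → ∀ d, 3 * d = (Fintype.card F - 1) ^ 2 * (Fintype.card F + 1) →
      d ∈ charDegrees G := by
    intro h31 d hd
    rw [hD]
    exact H142.T3.sl3_third hsl h31 hd
  have hknown : Known (p ^ (f : ℕ)) (charDegrees G) := by
    rw [← hcard]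
    exact ⟨hDs, hst, htwo, fun h => by rw [hD]; exact H326.T3.sl3_lin h, hthird, fun h => by omega⟩
  have hperf : ⁅commutator G, commutator G⁆ = commutator G := H34.Perf3.perfect_derived3 hp hf hknown
  obtain ⟨N, hN⟩ : ∃ N : Subgroup G, N = commutator G := ⟨_, rfl⟩
  have iN : N.Normal := by rw [hN]; infer_instance
  rw [← hN] at hperf
  have hNp : commutator N = ⊤ := by
    have h1 : (commutator N).map N.subtype = ⁅N, N⁆ := Subgroup.map_subtype_commutator N
    rw [hperf] at h1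
    rw [eq_top_iff]
    intro x _
    have h2 : (x : G) ∈ (commutator N).map N.subtype := by rw [h1]; exact x.2
    obtain ⟨y, hy, hyx⟩ := h2
    have : y = x := Subtype.ext hyx
    rwa [← this]
  have hq1 : Fintype.card F ^ 3 ≠ 1 := by
    have := Nat.pow_le_pow_left h3 3
    omega
  -- `N` is nontrivial
  have hNnt : Nontrivial N := by
    obtain ⟨θ, hθ, -, hθ1⟩ := H686.SlCentral.exists_under N hNp hN.symm hst hq1
    by_contra hcon
    rw [not_nontrivial_iff_subsingleton] at hcon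
    apply hθ1
    have h1 := dvd_card (⟨⟨θ, hθ⟩, rfl⟩ : charDegree θ ∈ charDegrees N)
    rw [Nat.card_of_subsingleton (1 : N)] at h1
    exact Nat.dvd_one.1 h1
  obtain ⟨R₀, hR₀, hs⟩ := H677.CodMain.exists_simple_quotient (G := N)
  have hna : ¬ IsMulCommutative (N ⧸ R₀) := by
    intro hc
    have h1 : commutator (N ⧸ R₀) = ⊤ := by
      rw [commutator_def, ← Subgroup.map_top_of_surjective _ (QuotientGroup.mk'_surjective R₀),
        ← Subgroup.map_commutator, ← commutator_def, hNp]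
    have h2 : commutator (N ⧸ R₀) = ⊥ := by
      rw [commutator_def, Subgroup.commutator_eq_bot_iff_le_centralizer]
      intro x _
      rw [Subgroup.mem_centralizer_iff]
      exact fun y _ => hc.is_comm.comm y x
    rw [h2] at h1
    exact bot_ne_top h1
  have hE : ∀ (A : Type u) [Group A] [Finite A] (S : Subgroup A), AS A S → HasExt3 A S := by
    intro A _ _ S hAS
    have := hAS.simple
    exact known_hasExt3 T hAS (hCF S)
  have hRn : (R₀.map N.subtype).Normal := kone3 N hN.ge R₀ hs hna hE h3 hDs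
  set R : Subgroup G := R₀.map N.subtype with hR
  have hRN : R ≤ N := by
    rintro _ ⟨n, -, rfl⟩
    exact n.2
  have hRsub : R.subgroupOf N = R₀ := by
    ext n
    rw [Subgroup.mem_subgroupOf]
    constructor
    · rintro ⟨m, hm, h⟩
      have : m = n := Subtype.ext h
      rwa [← this]
    · exact fun h => ⟨n, h, rfl⟩
  have hs' : IsSimpleGroup (N ⧸ R.subgroupOf N) :=
    (QuotientGroup.quotientMulEquivOfEq hRsub).isSimpleGroup
  have hna' : ¬ IsMulCommutative (N ⧸ R.subgroupOf N) := fun hc =>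
    hna ⟨⟨fun a b => (QuotientGroup.quotientMulEquivOfEq hRsub).symm.injective
      (by rw [map_mul, map_mul]; exact hc.is_comm.comm _ _)⟩⟩
  obtain ⟨hAS, e₁, he₁⟩ := AExt.exists_AS hRN hs' hna' hN.ge
  -- an extendible character
  obtain ⟨χ, hχ, hχS, n, hχ1, hn3⟩ := hE _ _ hAS
  have hβ : IsIrrCharacter G (χ ∘ (QuotientGroup.mk' (AExt.KK N R))) := isIrr_comp (QuotientGroup.mk' (AExt.KK N R)) (QuotientGroup.mk'_surjective _) hχ
  have hβN : IsIrrCharacter N (fun n : N => (χ ∘ (QuotientGroup.mk' (AExt.KK N R))) n) := by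
    have h1 := isIrr_comp (e₁.toMonoidHom.comp (QuotientGroup.mk' (R.subgroupOf N)))
      (e₁.surjective.comp (QuotientGroup.mk'_surjective _)) hχS
    have h2 : (fun n : N => (χ ∘ (QuotientGroup.mk' (AExt.KK N R))) n) = (fun s : N.map (QuotientGroup.mk' (AExt.KK N R)) => χ s) ∘
        (e₁.toMonoidHom.comp (QuotientGroup.mk' (R.subgroupOf N))) := by
      funext n
      change χ ((QuotientGroup.mk' (AExt.KK N R)) n) = χ ((e₁ (QuotientGroup.mk n) : N.map (QuotientGroup.mk' (AExt.KK N R))) : G ⧸ AExt.KK N R)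
      rw [he₁]
    rw [h2]
    exact h1
  have hβR : ∀ r ∈ R, (χ ∘ (QuotientGroup.mk' (AExt.KK N R))) r = (χ ∘ (QuotientGroup.mk' (AExt.KK N R))) 1 := by
    intro r hr
    have h1 := he₁ ⟨r, hRN hr⟩
    have h2 : (QuotientGroup.mk (⟨r, hRN hr⟩ : N) : N ⧸ R.subgroupOf N) = 1 :=
      (QuotientGroup.eq_one_iff _).2 (Subgroup.mem_subgroupOf.2 hr)
    rw [h2, map_one] at h1
    change χ ((QuotientGroup.mk' (AExt.KK N R)) r) = χ ((QuotientGroup.mk' (AExt.KK N R)) 1)
    rw [map_one]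
    have h3 : (QuotientGroup.mk' (AExt.KK N R)) r = 1 := h1.symm
    rw [h3]
  have hβ1 : (χ ∘ (QuotientGroup.mk' (AExt.KK N R))) 1 ≠ 1 := by
    rw [Function.comp, map_one, hχ1]
    intro h
    have : n = 1 := by exact_mod_cast h
    omega
  have hpd : p ∣ Nat.card (N ⧸ R.subgroupOf N) := H462.T3.pdvd3 hp hf (by rw [← hcard]; exact hst) hDs' N R hRN hperf hβ hβN
    hβR hβ1
  -- the socle is `PSL₃(q)`
  have hpS : p ∣ Nat.card (N.map (QuotientGroup.mk' (AExt.KK N R))) := by
    rw [← Nat.card_congr e₁.toEquiv]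
    exact hpd
  have hDA : charDegrees (G ⧸ AExt.KK N R) ⊆ DT (p ^ (f : ℕ)) := fun d hd =>
    hDs' (charDegrees_comp (QuotientGroup.mk' (AExt.KK N R)) (QuotientGroup.mk'_surjective _) hd)
  have hknownS : IsKnownSimple' (N.map (QuotientGroup.mk' (AExt.KK N R))) := by
    have := hAS.simple
    exact hCF _
  obtain ⟨K, iK, iK', hKc, ⟨e₂⟩⟩ := ident3 L hAS hp hf h3' hpS hDA hknownS
  have eF : K ≃+* F := FiniteField.ringEquivOfCardEq (hKc.trans hcard.symm)
  let e : (N ⧸ R.subgroupOf N) ≃* ProjectiveSpecialLinearGroup (Fin 3) F :=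
    (e₁.trans e₂).trans (LieClassical.FieldTransfer.pslCongr eF)
  have hRc : R ≤ Subgroup.centralizer (N : Set G) := L.central h3 hDs N R hRN hperf e
  have hcov := H834.T3.cover3 h3 hDs N R hRN hperf hRc e
  subst hN
  exact final3b h3 hDs hthird hcov (fun h31 => H612.Deg3.third_not_gl h31) hsl
    (fun h31 d hd => H142.T3.psl3_third hsl h31 hd) (H953.InvT.inndiag_of_inv h3)

theorem backward3 {G : Type u} [Group G] [Finite G] {F : Type v} [Field F] [Fintype F]
    (h : ∃ K A : Subgroup G, Nonempty (K ≃* SpecialLinearGroup (Fin 3) F) ∧ IsMulCommutative A ∧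
      A ≤ Subgroup.centralizer (K : Set G) ∧ K ⊔ A = ⊤) :
    charDegrees G = charDegrees (SpecialLinearGroup (Fin 3) F) := by
  obtain ⟨K, A, ⟨e⟩, hA, hAK, hKA⟩ := h
  rw [Back.charDegrees_of_central K A hA hAK hKA]
  ext d
  exact ⟨fun h => charDegrees_comp e.symm.toMonoidHom e.symm.surjective h,
    fun h => charDegrees_comp e.toMonoidHom e.surjective h⟩

/-- A finite field, in `Type`. -/
theorem exists_field (F : Type v) [Field F] [Fintype F] :
    ∃ (K : Type) (_ : Field K) (_ : Fintype K), Fintype.card K = Fintype.card F ∧ Nonempty (F ≃+* K) := by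
  classical
  have : Small.{0} F := inferInstance
  have e : F ≃+* Shrink.{0} F := (Shrink.ringEquiv F).symm
  have : Fintype (Shrink.{0} F) := Fintype.ofEquiv F e.toEquiv
  exact ⟨Shrink.{0} F, inferInstance, this, (Fintype.card_congr e.toEquiv).symm, ⟨e⟩⟩

/-- **S4855 modulo the classification and some facts.** -/
theorem main3 (L : Late.{u}) (T : TPs.{u})
    (hCF : ∀ (S : Type u) [Group S] [Finite S] [IsSimpleGroup S], IsKnownSimple' S)
    {G : Type u} [Group G] [Finite G] {F : Type v} [Field F] [Fintype F] :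
    charDegrees G = charDegrees (SpecialLinearGroup (Fin 3) F) ↔
    ∃ K A : Subgroup G, Nonempty (K ≃* SpecialLinearGroup (Fin 3) F) ∧ IsMulCommutative A ∧
      A ≤ Subgroup.centralizer (K : Set G) ∧ K ⊔ A = ⊤ := by
  refine ⟨fun hD => ?_, backward3⟩
  have h1 : 1 < Fintype.card F := Fintype.one_lt_card
  obtain ⟨F', _, _, hc, ⟨e⟩⟩ := exists_field F
  let e' : SpecialLinearGroup (Fin 3) F ≃* SpecialLinearGroup (Fin 3) F' :=
    LieClassical.FieldTransfer.slCongr e
  have hD' : charDegrees G = charDegrees (SpecialLinearGroup (Fin 3) F') := by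
    rw [hD]
    ext d
    exact ⟨fun h => charDegrees_comp e'.symm.toMonoidHom e'.symm.surjective h,
      fun h => charDegrees_comp e'.toMonoidHom e'.surjective h⟩
  rcases (show 2 ≤ Fintype.card F from h1).eq_or_lt with h2 | h3
  · exact H287.SLThree.two_case T hCF h2.symm (hD'.trans (H446.SLT.sl3_small (hc.trans h2.symm)))
  · obtain ⟨K, A, ⟨e₁⟩, hA, hAK, hKA⟩ := forward3 L T hCF (F := F') (by rw [hc]; exact h3) hD'
    exact ⟨K, A, ⟨e₁.trans e'.symm⟩, hA, hAK, hKA⟩

end Cfsg.Agent.H691.T3.Main
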